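/-
The normal elementary abelian subgroups of a 2-group given as in `Model`: certificates for the possible
images in the group of actions, and the bound on the order that follows.
-/
import Cfsg.Agent.H92.FiT.Model

set_option autoImplicit false

namespace H92.FiT

/-- Equality of rows. -/
def beqL : List ℕ → List ℕ → Bool
  | [], [] => true
  | [], _ :: _ => false
  | _ :: _, [] => false
  | a :: l, b :: m => Nat.beq a b && beqL l m

theorem beqL_iff : ∀ {l m : List ℕ}, beqL l m = true ↔ l = m
  | [], [] => by simp [beqL]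
  | [], b :: m => by simp [beqL]
  | a :: l, [] => by simp [beqL]
  | a :: l, b :: m => by simp [beqL, beqL_iff (l := l) (m := m)]

/-- Membership of a row. -/
def memL (L : List (List ℕ)) (r : List ℕ) : Bool := L.any (beqL r)

theorem memL_iff {L : List (List ℕ)} {r : List ℕ} : memL L r = true ↔ r ∈ L := by
  simp [memL, List.any_eq_true, beqL_iff]

/-- One step of a derivation inside the image of a normal subgroup. -/
def step (zs : List (List ℕ × List ℕ)) (n : ℕ) (L : List (List ℕ)) (o : ℕ × ℕ × ℕ) : List (List ℕ) :=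
  match zs[o.1]? with
  | some z => L ++ [comp z.1 (comp (L.getD o.2.1 (unit n)) z.2)]
  | none => L ++ [comp (L.getD o.2.1 (unit n)) (L.getD o.2.2 (unit n))]

/-- A derivation followed by what it shows. -/
abbrev Cert := List (ℕ × ℕ × ℕ) × ℕ × ℕ × ℕ

/-- The certificate shows that `y` with the set of index `i` cannot occur or forces a later set. -/
def okCert (zs : List (List ℕ × List ℕ)) (n : ℕ) (LS : List (List (List ℕ))) (i : ℕ)
    (S : List (List ℕ)) (y : List ℕ) (c : Cert) : Bool :=
  let L := c.1.foldl (step zs n) (S ++ [y])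
  match c.2.1 with
  | 0 => !beqL (comp (L.getD c.2.2.1 (unit n)) (L.getD c.2.2.1 (unit n))) (unit n)
  | 1 => !beqL (comp (L.getD c.2.2.1 (unit n)) (L.getD c.2.2.2 (unit n)))
      (comp (L.getD c.2.2.2 (unit n)) (L.getD c.2.2.1 (unit n)))
  | _ => decide (i < c.2.2.1) && decide (c.2.2.1 < LS.length) && (LS.getD c.2.2.1 []).all (memL L)

/-- All rows outside the set of index `i` are covered by certificates. -/
def okLevel (ms : List (List ℕ)) (zs : List (List ℕ × List ℕ)) (n N : ℕ) (LS : List (List (List ℕ)))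
    (i : ℕ) (certs : List Cert) : Bool :=
  (List.range N).all fun e =>
    memL (LS.getD i []) (rowOf ms n e) ||
      okCert zs n LS i (LS.getD i []) (rowOf ms n e) (certs.getD e ([], 2, 0, 0))

/-- The vectors fixed by all rows of a set. -/
def fixes (S : List (List ℕ)) (v : ℕ) : Bool := S.all fun r => Nat.beq (app r v) v

/-- The properties of the image of a normal elementary abelian subgroup. -/
structure Image (ms : List (List ℕ)) (zs : List (List ℕ × List ℕ)) (n N : ℕ) (P : List ℕ → Prop) :
    Prop where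
  one : P (unit n)
  mul : ∀ a b, P a → P b → P (comp a b)
  conj : ∀ z ∈ zs, ∀ a, P a → P (comp z.1 (comp a z.2))
  sq : ∀ a, P a → comp a a = unit n
  comm : ∀ a b, P a → P b → comp a b = comp b a
  dom : ∀ a, P a → ∃ e, e < N ∧ rowOf ms n e = a

theorem getD_of_all {α : Type*} {P : α → Prop} {L : List α} (h : ∀ a ∈ L, P a) {d : α} (hd : P d)
    (i : ℕ) : P (L.getD i d) := by
  rw [List.getD_eq_getElem?_getD]
  cases hi : L[i]? with
  | none => exact hd
  | some a => exact h a (List.mem_of_getElem? hi)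

theorem Image.steps {ms : List (List ℕ)} {zs : List (List ℕ × List ℕ)} {n N : ℕ}
    {P : List ℕ → Prop} (hP : Image ms zs n N P) : ∀ (ops : List (ℕ × ℕ × ℕ)) (L : List (List ℕ)),
      (∀ a ∈ L, P a) → ∀ a ∈ ops.foldl (step zs n) L, P a
  | [], _, h => h
  | o :: ops, L, h => by
      refine hP.steps ops _ ?_
      intro a ha
      unfold step at ha
      split at ha <;> rename_i hz <;> rcases List.mem_append.1 ha with ha | ha
      · exact h a ha
      · rw [List.mem_singleton.1 ha]
        exact hP.conj _ (List.mem_of_getElem? hz) _ (getD_of_all h hP.one _)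
      · exact h a ha
      · rw [List.mem_singleton.1 ha]
        exact hP.mul _ _ (getD_of_all h hP.one _) (getD_of_all h hP.one _)

theorem Image.eq_member {ms : List (List ℕ)} {zs : List (List ℕ × List ℕ)} {n N : ℕ}
    {P : List ℕ → Prop} (hP : Image ms zs n N P) {LS : List (List (List ℕ))}
    {certs : List (List Cert)} (h0 : LS.getD 0 [] = [unit n]) (hlen : 0 < LS.length)
    (hok : ∀ i, i < LS.length → okLevel ms zs n N LS i (certs.getD i []) = true) :
    ∃ i, i < LS.length ∧ ∀ r, P r ↔ r ∈ LS.getD i [] := by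
  classical
  let Q : ℕ → Prop := fun i => i < LS.length ∧ ∀ r ∈ LS.getD i [], P r
  have hQ0 : Q 0 := ⟨hlen, fun r hr => by rw [h0, List.mem_singleton] at hr; rw [hr]; exact hP.one⟩
  obtain ⟨i, ⟨hi, hiP⟩, himax⟩ := ((Finset.range LS.length).filter Q).exists_max_image id
    ⟨0, Finset.mem_filter.2 ⟨Finset.mem_range.2 hlen, hQ0⟩⟩ |>.imp fun i h =>
      (⟨(Finset.mem_filter.1 h.1).2, fun j hj => h.2 j (Finset.mem_filter.2
        ⟨Finset.mem_range.2 hj.1, hj⟩)⟩ : Q i ∧ ∀ j, Q j → j ≤ i)
  refine ⟨i, hi, fun r => ⟨fun hr => ?_, hiP r⟩⟩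
  by_contra hnot
  obtain ⟨e, he, rfl⟩ := hP.dom r hr
  have h := List.all_eq_true.1 (hok i hi) e (List.mem_range.2 he)
  rw [Bool.or_eq_true, memL_iff] at h
  replace h := h.resolve_left hnot
  generalize (certs.getD i []).getD e ([], 2, 0, 0) = c at h
  obtain ⟨ops, k, a, b⟩ := c
  have hL : ∀ x ∈ ops.foldl (step zs n) (LS.getD i [] ++ [rowOf ms n e]), P x :=
    hP.steps ops _ fun x hx => by
      rcases List.mem_append.1 hx with hx | hx
      · exact hiP x hx
      · rw [List.mem_singleton.1 hx]; exact hr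
  match k with
  | 0 =>
    simp only [okCert, Bool.not_eq_true', Bool.eq_false_iff, ne_eq, beqL_iff] at h
    exact h (hP.sq _ (getD_of_all hL hP.one _))
  | 1 =>
    simp only [okCert, Bool.not_eq_true', Bool.eq_false_iff, ne_eq, beqL_iff] at h
    exact h (hP.comm _ _ (getD_of_all hL hP.one _) (getD_of_all hL hP.one _))
  | k + 2 =>
    simp only [okCert, Bool.and_eq_true, decide_eq_true_eq, List.all_eq_true, memL_iff] at h
    have := himax a ⟨h.1.2, fun x hx => hL x (h.2 x hx)⟩
    omega

section Groups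

variable {G : Type*} [Group G]

theorem unit_comp {js : List G} (hB : Basis js) {x : G} {r : List ℕ} (h : Acts js x r) :
    comp (unit js.length) r = r := by
  have h' := (acts_bits hB 0).mul hB h
  rw [bitsProd_zero, one_mul] at h'
  exact h'.unique hB h

theorem Acts.inv {js : List G} (hB : Basis js) {x : G} {r r' : List ℕ} (h : Acts js x r)
    (hl : r'.length = js.length) (hb : ∀ a ∈ r', a < 2 ^ js.length)
    (he : comp r r' = unit js.length) : Acts js x⁻¹ r' := by
  refine ⟨hl, hb, List.ext_getElem (by simp [hl]) fun i hi hi' => ?_⟩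
  have hi0 : i < js.length := by simpa using hi
  have e := List.getElem_of_eq he (i := i) (by simpa [comp, hl] using hi0)
  simp only [comp, unit, List.getElem_map, List.getElem_range] at e
  simp only [List.getElem_map]
  calc x⁻¹ * js[i] * x⁻¹⁻¹ = x⁻¹ * bitsProd js (app r (r'[i]'(hl.symm ▸ hi0))) * x := by
        rw [e, bitsProd_pow js i hi0, inv_inv]
    _ = _ := by rw [← h.apply hB]; group

/-- The data and checks for the normal forms of a 2-group. -/
structure Forms (js ts : List G) (ms ms' : List (List ℕ)) : Prop where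
  basis : Basis js
  acts : List.Forall₂ (Acts js) ts ms
  closed : Closed js ts
  inv : List.Forall₂ (fun m m' : List ℕ => m'.length = js.length ∧
    (∀ a ∈ m', a < 2 ^ js.length) ∧ comp m m' = unit js.length) ms ms'
  inj : ∀ e f, e < 2 ^ ts.length → f < 2 ^ ts.length →
    rowOf ms js.length e = rowOf ms js.length f → e = f

theorem zip_pairs {js : List G} (hB : Basis js) : ∀ {ts : List G} {ms ms' : List (List ℕ)},
    List.Forall₂ (Acts js) ts ms → List.Forall₂ (fun m m' : List ℕ => m'.length = js.length ∧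
      (∀ a ∈ m', a < 2 ^ js.length) ∧ comp m m' = unit js.length) ms ms' →
    ∀ z ∈ ms.zip ms', ∃ t ∈ ts, Acts js t z.1 ∧ Acts js t⁻¹ z.2
  | _, _, _, .nil, .nil => by simp
  | t :: ts, m :: ms, m' :: ms', .cons h hl, .cons h' hl' => by
      intro z hz
      rw [List.zip_cons_cons, List.mem_cons] at hz
      rcases hz with rfl | hz
      · exact ⟨t, List.mem_cons_self, h, h.inv hB h'.1 h'.2.1 h'.2.2⟩
      · obtain ⟨s, hs, hh⟩ := zip_pairs hB hl hl' z hz
        exact ⟨s, List.mem_cons_of_mem _ hs, hh⟩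

theorem Forms.unique {js ts : List G} {ms ms' : List (List ℕ)} (F : Forms js ts ms ms')
    {v w e f : ℕ} (hv : v < 2 ^ js.length) (hw : w < 2 ^ js.length) (he : e < 2 ^ ts.length)
    (hf : f < 2 ^ ts.length)
    (h : bitsProd js v * bitsProd ts e = bitsProd js w * bitsProd ts f) : v = w ∧ e = f := by
  have a := (acts_bits F.basis v).mul F.basis (acts_form F.basis ts ms F.acts e)
  have b := (acts_bits F.basis w).mul F.basis (acts_form F.basis ts ms F.acts f)
  rw [h] at a
  have hr := a.unique F.basis b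
  rw [unit_comp F.basis (acts_form F.basis ts ms F.acts e),
    unit_comp F.basis (acts_form F.basis ts ms F.acts f)] at hr
  have hef := F.inj e f he hf hr
  subst hef
  exact ⟨F.basis.inj' hv hw (mul_right_cancel h), rfl⟩

theorem Forms.card {js ts : List G} {ms ms' : List (List ℕ)} (F : Forms js ts ms ms')
    {K : Subgroup G} (hK : ∀ x, x ∈ K ↔ Form js ts x) :
    Nat.card K = 2 ^ js.length * 2 ^ ts.length := by
  let φ : Fin (2 ^ js.length) × Fin (2 ^ ts.length) → K := fun p =>
    ⟨bitsProd js p.1 * bitsProd ts p.2, (hK _).2 ⟨p.1, p.1.2, p.2, p.2.2, rfl⟩⟩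
  have hφ : Function.Bijective φ := by
    refine ⟨fun p q h => ?_, fun x => ?_⟩
    · obtain ⟨h1, h2⟩ := F.unique p.1.2 q.1.2 p.2.2 q.2.2 (congrArg Subtype.val h)
      exact Prod.ext (Fin.ext h1) (Fin.ext h2)
    · obtain ⟨v, hv, e, he, h⟩ := (hK _).1 x.2
      exact ⟨(⟨v, hv⟩, ⟨e, he⟩), Subtype.ext h.symm⟩
  rw [← Nat.card_eq_of_bijective φ hφ, Nat.card_prod, Nat.card_fin, Nat.card_fin]

/-- The subgroup spanned by the basis. -/
def span {js : List G} (hB : Basis js) : Subgroup G where
  carrier := {x | ∃ v, v < 2 ^ js.length ∧ x = bitsProd js v}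
  one_mem' := ⟨0, Nat.two_pow_pos _, (bitsProd_zero js).symm⟩
  mul_mem' := by
    rintro _ _ ⟨v, hv, rfl⟩ ⟨w, hw, rfl⟩
    exact ⟨v ^^^ w, Nat.xor_lt_two_pow hv hw, (bitsProd_xor js hB.sq hB.comm v w).symm⟩
  inv_mem' := by
    rintro _ ⟨v, hv, rfl⟩
    refine ⟨v, hv, inv_eq_of_mul_eq_one_right ?_⟩
    rw [← bitsProd_xor js hB.sq hB.comm, Nat.xor_self, bitsProd_zero]

theorem span_card {js : List G} (hB : Basis js) : Nat.card (span hB) = 2 ^ js.length := by
  let φ : Fin (2 ^ js.length) → span hB := fun v => ⟨bitsProd js v, v, v.2, rfl⟩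
  have hφ : Function.Bijective φ := by
    refine ⟨fun p q h => Fin.ext (hB.inj' p.2 q.2 (congrArg Subtype.val h)), fun x => ?_⟩
    obtain ⟨v, hv, h⟩ := x.2
    exact ⟨⟨v, hv⟩, Subtype.ext h.symm⟩
  rw [← Nat.card_eq_of_bijective φ hφ, Nat.card_fin]

theorem span_elementary {js : List G} (hB : Basis js) : Cfsg.IsElementaryAbelian 2 (span hB) := by
  refine ⟨⟨⟨fun a b => ?_⟩⟩, ?_⟩
  · obtain ⟨v, -, hv⟩ := a.2
    obtain ⟨w, -, hw⟩ := b.2
    apply Subtype.ext
    show (a : G) * b = b * a
    rw [hv, hw]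
    exact hB.commute_bits v w
  · rintro _ ⟨v, -, rfl⟩
    rw [pow_two, ← bitsProd_xor js hB.sq hB.comm, Nat.xor_self, bitsProd_zero]

/-- Every normal elementary abelian subgroup is the span of the basis or is smaller. -/
theorem Forms.elementary_bound {js ts : List G} {ms ms' : List (List ℕ)} (F : Forms js ts ms ms')
    {LS : List (List (List ℕ))} {certs : List (List Cert)}
    (h0 : LS.getD 0 [] = [unit js.length]) (hlen : 0 < LS.length)
    (hok : ∀ i, i < LS.length →
      okLevel ms (ms.zip ms') js.length (2 ^ ts.length) LS i (certs.getD i []) = true)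
    (hfix : ∀ i, 0 < i → i < LS.length → (LS.getD i []).length *
      ((List.range (2 ^ js.length)).filter (fixes (LS.getD i []))).length < 2 ^ js.length)
    {A : Subgroup G} (hA : ∀ a ∈ A, Form js ts a) (hnorm : ∀ t ∈ ts, ∀ a ∈ A, t * a * t⁻¹ ∈ A)
    (hsq : ∀ a ∈ A, a * a = 1) (hcomm : ∀ a ∈ A, ∀ b ∈ A, a * b = b * a) :
    A ≤ span F.basis ∨ Nat.card A < 2 ^ js.length := by
  classical
  have hB := F.basis
  let P : List ℕ → Prop := fun r => ∃ a ∈ A, Acts js a r
  have hone : Acts js (1 : G) (unit js.length) := by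
    have := acts_bits hB 0
    rwa [bitsProd_zero] at this
  have form : ∀ a ∈ A, ∃ v e, v < 2 ^ js.length ∧ e < 2 ^ ts.length ∧
      a = bitsProd js v * bitsProd ts e ∧ Acts js a (rowOf ms js.length e) := by
    intro a ha
    obtain ⟨v, hv, e, he, h⟩ := hA a ha
    refine ⟨v, e, hv, he, h, ?_⟩
    have := (acts_bits hB v).mul hB (acts_form hB ts ms F.acts e)
    rwa [unit_comp hB (acts_form hB ts ms F.acts e), ← h] at this
  have hP : Image ms (ms.zip ms') js.length (2 ^ ts.length) P := by
    refine ⟨⟨1, one_mem A, hone⟩, ?_, ?_, ?_, ?_, ?_⟩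
    · rintro r s ⟨a, ha, hr⟩ ⟨b, hb, hs⟩
      exact ⟨a * b, mul_mem ha hb, hr.mul hB hs⟩
    · rintro z hz r ⟨a, ha, hr⟩
      obtain ⟨t, ht, h1, h2⟩ := zip_pairs hB F.acts F.inv z hz
      refine ⟨t * a * t⁻¹, hnorm t ht a ha, ?_⟩
      rw [mul_assoc]
      exact h1.mul hB (hr.mul hB h2)
    · rintro r ⟨a, ha, hr⟩
      have := hr.mul hB hr
      rw [hsq a ha] at this
      exact this.unique hB hone
    · rintro r s ⟨a, ha, hr⟩ ⟨b, hb, hs⟩
      have := hr.mul hB hs
      rw [hcomm a ha b hb] at this
      exact this.unique hB (hs.mul hB hr)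
    · rintro r ⟨a, ha, hr⟩
      obtain ⟨v, e, -, he, -, h⟩ := form a ha
      exact ⟨e, he, h.unique hB hr⟩
  obtain ⟨i, hi, hiff⟩ := hP.eq_member h0 hlen hok
  have trivialRow : ∀ a ∈ A, Acts js a (unit js.length) →
      ∃ v, v < 2 ^ js.length ∧ a = bitsProd js v := by
    intro a ha h
    obtain ⟨v, e, hv, he, hae, h'⟩ := form a ha
    have h0' : rowOf ms js.length 0 = unit js.length := by
      have h3 := acts_form hB ts ms F.acts 0
      rw [bitsProd_zero] at h3
      exact h3.unique hB hone
    have he0 : e = 0 :=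
      F.inj e 0 he (Nat.two_pow_pos _) ((h'.unique hB h).trans h0'.symm)
    exact ⟨v, hv, by rw [hae, he0, bitsProd_zero, mul_one]⟩
  rcases Nat.eq_zero_or_pos i with rfl | hipos
  · refine Or.inl fun a ha => trivialRow a ha ?_
    obtain ⟨v, e, -, -, -, h⟩ := form a ha
    have := (hiff _).1 ⟨a, ha, h⟩
    rw [h0, List.mem_singleton] at this
    rwa [this] at h
  · right
    let rep : List ℕ → G := fun r => if hr : P r then hr.choose else 1
    let fx := (List.range (2 ^ js.length)).filter (fixes (LS.getD i []))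
    let all : List G := (LS.getD i []).flatMap fun r => fx.map fun v => rep r * bitsProd js v
    have hsub : (A : Set G) ⊆ ↑all.toFinset := by
      intro a ha
      obtain ⟨v₀, e, -, -, -, h⟩ := form a ha
      have hPr : P (rowOf ms js.length e) := ⟨a, ha, h⟩
      have hrep : rep (rowOf ms js.length e) ∈ A ∧
          Acts js (rep (rowOf ms js.length e)) (rowOf ms js.length e) := by
        simp only [rep, dif_pos hPr]
        exact hPr.choose_spec
      set g := rep (rowOf ms js.length e) with hg
      have hginv : g⁻¹ = g := inv_eq_of_mul_eq_one_right (hsq g hrep.1)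
      have hmem : g * a ∈ A := mul_mem hrep.1 ha
      have hrow : Acts js (g * a) (unit js.length) := by
        have := hrep.2.mul hB h
        rwa [hP.sq _ hPr] at this
      obtain ⟨v, hv, hva⟩ := trivialRow _ hmem hrow
      have hfx : v ∈ fx := by
        refine List.mem_filter.2 ⟨List.mem_range.2 hv, List.all_eq_true.2 fun r hr => (iff_of_eq Nat.beq_eq).2 ?_⟩
        obtain ⟨b, hb, hbr⟩ := (hiff r).2 hr
        refine hB.inj' (app_lt r hbr.2.1 v) hv ?_
        rw [← hbr.apply hB, ← hva, hcomm b hb _ hmem, mul_inv_cancel_right]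
      simp only [SetLike.mem_coe, List.mem_toFinset, all,
        List.mem_flatMap, List.mem_map]
      refine ⟨_, (hiff _).1 hPr, v, hfx, ?_⟩
      rw [← hg, ← hva, ← mul_assoc, hsq g hrep.1, one_mul]
    calc Nat.card A = (A : Set G).ncard := (Nat.card_coe_set_eq _)
      _ ≤ (all.toFinset : Set G).ncard := Set.ncard_le_ncard hsub (Finset.finite_toSet _)
      _ = all.toFinset.card := Set.ncard_coe_finset _
      _ ≤ all.length := List.toFinset_card_le _
      _ = (LS.getD i []).length * fx.length := by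
        simp [all, List.length_flatMap, List.map_const']
      _ < 2 ^ js.length := hfix i hipos hi

end Groups

end H92.FiT
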