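/-
Generated data: a Sylow 2-subgroup of Fi23 as an extension of an elementary abelian group of order 2^11.
-/
import Cfsg.Agent.H92.FiT.Analysis

set_option autoImplicit false
set_option maxRecDepth 100000

namespace H92.FiT

/-- Words for the basis. -/
def jw : List (List ℕ) := [
  [7],
  [8,5,4,3,4,5,8],
  [5,4,3,2,1,2,3,4,5],
  [9,8,5,4,3,2,3,4,5,8,9],
  [2,3,8,5,4,3,2,1,0,1,2,3,4,5,8,3,2],
  [9,3,8,5,4,3,2,1,0,1,2,3,4,5,8,3,9],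
  [3,8,9,2,3,8,5,4,3,2,1,2,3,4,5,8,3,2,9,8,3],
  [5,4,0,1,2,3,8,9,6,5,4,2,3,8,7,6,5,4,3,2,1,2,3,4,5,6,7,8,3,2,4,5,6,9,8,3,2,1,0,4,5],
  [5,3,4,2,3,8,9,6,5,4,2,3,8,7,6,5,4,3,2,1,0,1,2,3,4,5,6,7,8,3,2,4,5,6,9,8,3,2,4,3,5],
  [5,3,4,2,3,8,9,6,4,5,3,4,2,3,8,7,6,5,4,3,2,1,2,3,4,5,6,7,8,3,2,4,3,5,4,6,9,8,3,2,4,3,5],
  [8,5,2,3,4,1,2,3,8,9,6,5,4,2,3,8,7,6,5,4,3,2,1,0,1,2,3,4,5,6,7,8,3,2,4,5,6,9,8,3,2,1,4,3,2,5,8]]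

/-- Words for the further generators. -/
def tw : List (List ℕ) := [
  [3,4,3,6,0,8,3,4,5,1,2,3,4,8,3,9,8,2,3,4,1,2,3,8,9,5,0,1,2,3,4,8,3,9,8,2,3,4,1,2,3,8,9,6,5,4,0,8,3,4,5,1,2,3,4,8,3,9,8,2,3,4,1,2,3,8,9,5,0,1,2,3,4,8,3,9,8,2,3,4,1,2,3,8,9,5,8,9,8,3,2,1,4,3,2,8,9,3,8,4,3,2,1,0,5,6,9,8,3,2,1,4,3,2,8,9,3,8,4,3,2,1,9,8,3,2,1,4,3,2,8,9,3,8,4,3,2,1,0,5,1,0,2,9,8,3,4,5,7,6,5,4,3,2,1,0,8,3,4,5,6,7,9,8,3,2,1,0,4,5],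
  [2,3,2,5,4,6,5,0,8,3,4,5,1,2,3,4,8,3,9,8,2,3,4,1,2,3,8,9,5,0,1,2,3,4,8,3,9,8,2,3,4,1,2,3,8,9,0,8,3,4,5,1,2,3,4,8,3,9,8,2,3,4,1,2,3,8,9,5,0,1,2,3,4,8,3,9,8,2,3,4,1,2,3,8,9,0,8,9,8,3,2,1,4,3,2,8,9,3,8,4,3,2,1,5,6,1,0,2,1,3,4,9,8,3,2,1,0,7,6,5,4,3,2,1,0,8,3,2,1,4,3,5,6,8,9,8,3,2,4,3,5,8,9],
  [5,4,6,5,0,8,3,9,8,3,2,1,4,3,2,8,9,3,8,4,3,2,1,9,8,3,2,1,4,3,2,8,9,3,8,4,3,2,1,5,4,3,2,1,0,2,1,9,8,3,2,1,4,3,5,4,6,8,3,2,1,7,6,5,4,3,2,1,0,8,3,2,4,3,5,6,7,8,9,8,3,2,1,0,4,5],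
  [5,4,3,6,0,8,3,2,9,8,3,2,1,4,3,2,8,9,3,8,4,3,2,1,9,8,3,2,1,4,3,2,8,9,3,8,4,3,2,1,5,4,3,1,0,2,3,9,8,3,2,4,5,6,7,6,5,4,3,2,1,0,8,3,2,1,4,3,2,5,6,9,8,3,2,1,0,4,5],
  [5,4,6,5,0,9,8,3,2,1,4,3,2,8,9,3,8,4,3,2,1,9,8,3,2,1,4,3,2,8,9,3,8,4,3,2,1,5,6,9,8,3,2,1,0,7,6,5,4,3,2,8,3,4,5,6,9,8,3,2,1,0,4,5],
  [3,2,5,0,1,0,2,1,3,4,8,3,9,8,3,4,5],
  [3,5,4,0,8,3,4,9,8,3,2,1,4,3,2,8,9,3,8,4,3,2,1,9,8,3,2,1,4,3,2,8,9,3,8,4,3,2,0,2,3,8,9,8,3,2,4,5]]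

/-- The actions of the generators. -/
def ms : List (List ℕ) := [
  [443,1024,1205,4,126,1496,64,8,16,1657,32],
  [1,32,723,797,1694,2,64,2031,1012,16,1496],
  [1,2,16,126,4,32,64,1205,1367,2031,1024],
  [1,1024,256,8,16,1496,64,126,4,797,2],
  [1,2,128,1367,1205,32,64,4,126,797,1024],
  [1,32,8,126,4,2,64,1367,1205,1842,1496],
  [1,2,126,16,8,32,64,256,128,1657,1024]]

/-- The actions of their inverses. -/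
def ms' : List (List ℕ) := [
  [443,1496,8,128,256,1024,64,1205,1367,1657,2],
  [1,32,1012,1657,512,2,64,1842,723,1367,1496],
  [1,2,16,126,4,32,64,1205,1367,2031,1024],
  [1,1024,256,8,16,1496,64,126,4,797,2],
  [1,2,128,1367,1205,32,64,4,126,797,1024],
  [1,32,16,4,126,2,64,1205,1367,723,1496],
  [1,2,126,16,8,32,64,256,128,1657,1024]]

/-- All actions. -/
def allRows : List (List ℕ) := [
  [1,2,4,8,16,32,64,128,256,512,1024],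
  [443,1024,1205,4,126,1496,64,8,16,1657,32],
  [1,32,723,797,1694,2,64,2031,1012,16,1496],
  [443,1496,1012,797,1694,1024,64,723,1842,126,2],
  [1,2,16,126,4,32,64,1205,1367,2031,1024],
  [443,1024,126,1367,1205,1496,64,128,256,723,32],
  [1,32,1694,1842,723,2,64,1657,512,126,1496],
  [443,1496,1694,2031,1012,1024,64,512,1657,1367,2],
  [1,1024,256,8,16,1496,64,126,4,797,2],
  [443,32,16,4,126,2,64,1367,1205,797,1024],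
  [1,1496,1012,797,1694,1024,64,1842,723,1205,32],
  [443,2,1842,797,1694,32,64,2031,1012,128,1496],
  [1,1024,1367,126,4,1496,64,8,16,723,2],
  [443,32,256,1367,1205,2,64,4,126,1012,1024],
  [1,1496,512,1842,723,1024,64,797,1694,256,32],
  [443,2,1657,2031,1012,32,64,797,1694,16,1496],
  [1,2,128,1367,1205,32,64,4,126,797,1024],
  [443,1024,8,256,128,1496,64,1205,1367,797,32],
  [1,32,2031,512,1657,2,64,723,1842,1205,1496],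
  [443,1496,723,1657,512,1024,64,1012,2031,128,2],
  [1,2,1205,256,128,32,64,16,8,723,1024],
  [443,1024,128,16,8,1496,64,126,4,1012,32],
  [1,32,1657,1012,2031,2,64,1694,797,256,1496],
  [443,1496,512,1842,723,1024,64,1694,797,16,2],
  [1,1024,126,1367,1205,1496,64,256,128,512,2],
  [443,32,1367,256,128,2,64,16,8,1657,1024],
  [1,1496,1842,512,1657,1024,64,1012,2031,16,32],
  [443,2,2031,1657,512,32,64,1842,723,126,1496],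
  [1,1024,8,256,128,1496,64,1367,1205,2031,2],
  [443,32,4,16,8,2,64,256,128,723,1024],
  [1,1496,797,1012,2031,1024,64,512,1657,126,32],
  [443,2,797,1842,723,32,64,1657,512,1367,1496],
  [1,32,8,126,4,2,64,1367,1205,1842,1496],
  [443,1496,4,1367,1205,1024,64,256,128,2031,2],
  [1,2,797,1842,723,32,64,512,1657,128,1024],
  [443,1024,797,2031,1012,1496,64,1657,512,8,32],
  [1,32,126,8,16,2,64,256,128,1694,1496],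
  [443,1496,1367,4,126,1024,64,16,8,1694,2],
  [1,2,1842,797,1694,32,64,1012,2031,1367,1024],
  [443,1024,2031,797,1694,1496,64,1842,723,256,32],
  [1,1496,8,128,256,1024,64,1367,1205,723,32],
  [443,2,4,8,16,32,64,256,128,1012,1496],
  [1,1024,797,2031,1012,1496,64,512,1657,256,2],
  [443,32,797,723,1842,2,64,1657,512,16,1024],
  [1,1496,126,1205,1367,1024,64,256,128,797,32],
  [443,2,1367,128,256,32,64,16,8,797,1496],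
  [1,1024,1842,1657,512,1496,64,1012,2031,1205,2],
  [443,32,2031,512,1657,2,64,1842,723,128,1024],
  [1,32,1367,256,128,2,64,8,16,1012,1496],
  [443,1496,256,16,8,1024,64,4,126,1842,2],
  [1,2,512,1012,2031,32,64,797,1694,4,1024],
  [443,1024,1657,1842,723,1496,64,797,1694,1205,32],
  [1,32,256,1367,1205,2,64,126,4,1657,1496],
  [443,1496,16,256,128,1024,64,1367,1205,512,2],
  [1,2,1012,512,1657,32,64,1842,723,8,1024],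
  [443,1024,1842,1657,512,1496,64,2031,1012,4,32],
  [1,1496,1367,4,126,1024,64,8,16,2031,32],
  [443,2,256,1205,1367,32,64,4,126,723,1496],
  [1,1024,512,723,1842,1496,64,797,1694,126,2],
  [443,32,1657,1012,2031,2,64,797,1694,1367,1024],
  [1,1496,256,16,8,1024,64,126,4,512,32],
  [443,2,16,126,4,32,64,1367,1205,1657,1496],
  [1,1024,1012,1694,797,1496,64,1842,723,16,2],
  [443,32,1842,1694,797,2,64,2031,1012,126,1024],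
  [1,2,126,16,8,32,64,256,128,1657,1024],
  [443,1024,1367,126,4,1496,64,16,8,512,32],
  [1,32,1842,1694,797,2,64,1012,2031,8,1496],
  [443,1496,2031,1694,797,1024,64,1842,723,4,2],
  [1,2,8,4,126,32,64,1367,1205,1012,1024],
  [443,1024,4,1205,1367,1496,64,256,128,1842,32],
  [1,32,797,723,1842,2,64,512,1657,4,1496],
  [443,1496,797,1012,2031,1024,64,1657,512,1205,2],
  [1,1024,128,16,8,1496,64,4,126,1694,2],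
  [443,32,8,126,4,2,64,1205,1367,1694,1024],
  [1,1496,2031,1694,797,1024,64,723,1842,1367,32],
  [443,2,723,1694,797,32,64,1012,2031,256,1496],
  [1,1024,1205,4,126,1496,64,16,8,1842,2],
  [443,32,128,1205,1367,2,64,126,4,2031,1024],
  [1,1496,1657,723,1842,1024,64,1694,797,128,32],
  [443,2,512,1012,2031,32,64,1694,797,8,1496],
  [1,2,256,1205,1367,32,64,126,4,1694,1024],
  [443,1024,16,128,256,1496,64,1367,1205,1694,32],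
  [1,32,1012,1657,512,2,64,1842,723,1367,1496],
  [443,1496,1842,512,1657,1024,64,2031,1012,256,2],
  [1,2,1367,128,256,32,64,8,16,1842,1024],
  [443,1024,256,8,16,1496,64,4,126,2031,32],
  [1,32,512,2031,1012,2,64,797,1694,128,1496],
  [443,1496,1657,723,1842,1024,64,797,1694,8,2],
  [1,1024,4,1205,1367,1496,64,128,256,1657,2],
  [443,32,1205,128,256,2,64,8,16,512,1024],
  [1,1496,723,1657,512,1024,64,2031,1012,8,32],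
  [443,2,1012,512,1657,32,64,723,1842,4,1496],
  [1,1024,16,128,256,1496,64,1205,1367,1012,2],
  [443,32,126,8,16,2,64,128,256,1842,1024],
  [1,1496,1694,2031,1012,1024,64,1657,512,4,32],
  [443,2,1694,723,1842,32,64,512,1657,1205,1496],
  [1,32,16,4,126,2,64,1205,1367,723,1496],
  [443,1496,126,1205,1367,1024,64,128,256,1012,2],
  [1,2,1694,723,1842,32,64,1657,512,256,1024],
  [443,1024,1694,1012,2031,1496,64,512,1657,16,32],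
  [1,32,4,16,8,2,64,128,256,797,1496],
  [443,1496,1205,126,4,1024,64,8,16,797,2],
  [1,2,723,1694,797,32,64,2031,1012,1205,1024],
  [443,1024,1012,1694,797,1496,64,723,1842,128,32],
  [1,1496,16,256,128,1024,64,1205,1367,1842,32],
  [443,2,126,16,8,32,64,128,256,2031,1496],
  [1,1024,1694,1012,2031,1496,64,1657,512,128,2],
  [443,32,1694,1842,723,2,64,512,1657,8,1024],
  [1,1496,4,1367,1205,1024,64,128,256,1694,32],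
  [443,2,1205,256,128,32,64,8,16,1694,1496],
  [1,1024,723,512,1657,1496,64,2031,1012,1367,2],
  [443,32,1012,1657,512,2,64,723,1842,256,1024],
  [1,32,1205,128,256,2,64,16,8,2031,1496],
  [443,1496,128,8,16,1024,64,126,4,723,2],
  [1,2,1657,2031,1012,32,64,1694,797,126,1024],
  [443,1024,512,723,1842,1496,64,1694,797,1367,32],
  [1,32,128,1205,1367,2,64,4,126,512,1496],
  [443,1496,8,128,256,1024,64,1205,1367,1657,2],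
  [1,2,2031,1657,512,32,64,723,1842,16,1024],
  [443,1024,723,512,1657,1496,64,1012,2031,126,32],
  [1,1496,1205,126,4,1024,64,16,8,1012,32],
  [443,2,128,1367,1205,32,64,126,4,1842,1496],
  [1,1024,1657,1842,723,1496,64,1694,797,4,2],
  [443,32,512,2031,1012,2,64,1694,797,1205,1024],
  [1,1496,128,8,16,1024,64,4,126,1657,32],
  [443,2,8,4,126,32,64,1205,1367,512,1496],
  [1,1024,2031,797,1694,1496,64,723,1842,8,2],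
  [443,32,723,797,1694,2,64,1012,2031,4,1024]]

/-- Normal forms of squares and conjugates. -/
def relForms : List ((ℕ × ℕ) × List (ℕ × ℕ)) := [
  ((413,58),[(1396,35),(1182,42),(465,54),(324,40),(337,24),(384,32)]),
  ((652,20),[(1883,17),(292,6),(1375,4),(145,12),(24,16)]),
  ((1111,0),[(157,11),(1375,2),(1495,12),(482,8)]),
  ((1276,0),[(1057,1),(419,7),(408,4)]),
  ((0,0),[(0,1),(0,2)]),
  ((0,1),[(0,1)]),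
  ((0,0),[])]

/-- The possible images of normal elementary abelian subgroups. -/
def images : List (List (List ℕ)) := [
  [[1,2,4,8,16,32,64,128,256,512,1024]],
  [[1,2,4,8,16,32,64,128,256,512,1024],[1,2,126,16,8,32,64,256,128,1657,1024]],
  [[1,2,4,8,16,32,64,128,256,512,1024],[1,2,128,1367,1205,32,64,4,126,797,1024],[1,2,126,16,8,32,64,256,128,1657,1024],[1,2,256,1205,1367,32,64,126,4,1694,1024]],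
  [[1,2,4,8,16,32,64,128,256,512,1024],[1,2,16,126,4,32,64,1205,1367,2031,1024],[1,2,128,1367,1205,32,64,4,126,797,1024],[1,2,1205,256,128,32,64,16,8,723,1024],[1,2,126,16,8,32,64,256,128,1657,1024],[1,2,8,4,126,32,64,1367,1205,1012,1024],[1,2,256,1205,1367,32,64,126,4,1694,1024],[1,2,1367,128,256,32,64,8,16,1842,1024]],
  [[1,2,4,8,16,32,64,128,256,512,1024],[1,2,128,1367,1205,32,64,4,126,797,1024],[1,32,126,8,16,2,64,256,128,1694,1496],[1,32,256,1367,1205,2,64,126,4,1657,1496],[1,2,126,16,8,32,64,256,128,1657,1024],[1,2,256,1205,1367,32,64,126,4,1694,1024],[1,32,4,16,8,2,64,128,256,797,1496],[1,32,128,1205,1367,2,64,4,126,512,1496]],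
  [[1,2,4,8,16,32,64,128,256,512,1024],[1,2,16,126,4,32,64,1205,1367,2031,1024],[1,2,128,1367,1205,32,64,4,126,797,1024],[1,2,1205,256,128,32,64,16,8,723,1024],[1,2,797,1842,723,32,64,512,1657,128,1024],[1,2,1842,797,1694,32,64,1012,2031,1367,1024],[1,2,512,1012,2031,32,64,797,1694,4,1024],[1,2,1012,512,1657,32,64,1842,723,8,1024],[1,2,126,16,8,32,64,256,128,1657,1024],[1,2,8,4,126,32,64,1367,1205,1012,1024],[1,2,256,1205,1367,32,64,126,4,1694,1024],[1,2,1367,128,256,32,64,8,16,1842,1024],[1,2,1694,723,1842,32,64,1657,512,256,1024],[1,2,723,1694,797,32,64,2031,1012,1205,1024],[1,2,1657,2031,1012,32,64,1694,797,126,1024],[1,2,2031,1657,512,32,64,723,1842,16,1024]],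
  [[1,2,4,8,16,32,64,128,256,512,1024],[1,1024,256,8,16,1496,64,126,4,797,2],[1,2,128,1367,1205,32,64,4,126,797,1024],[1,1024,126,1367,1205,1496,64,256,128,512,2],[1,32,126,8,16,2,64,256,128,1694,1496],[1,1496,126,1205,1367,1024,64,256,128,797,32],[1,32,256,1367,1205,2,64,126,4,1657,1496],[1,1496,256,16,8,1024,64,126,4,512,32],[1,2,126,16,8,32,64,256,128,1657,1024],[1,1024,128,16,8,1496,64,4,126,1694,2],[1,2,256,1205,1367,32,64,126,4,1694,1024],[1,1024,4,1205,1367,1496,64,128,256,1657,2],[1,32,4,16,8,2,64,128,256,797,1496],[1,1496,4,1367,1205,1024,64,128,256,1694,32],[1,32,128,1205,1367,2,64,4,126,512,1496],[1,1496,128,8,16,1024,64,4,126,1657,32]]]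

/-- Certificates for the image of index 0. -/
def certs0 : List Cert := [
  ([],2,0,0),
  ([],0,1,0),
  ([],0,1,0),
  ([],0,1,0),
  ([(0,1,0),(1,1,0),(1,2,0),(7,1,2),(0,5,0),(7,1,3)],2,3,0),
  ([],0,1,0),
  ([],0,1,0),
  ([],0,1,0),
  ([(0,1,0),(1,1,0),(2,1,0),(1,2,0),(2,2,0),(0,3,0),(2,3,0),(7,1,2),(1,9,0),(2,9,0),(0,10,0),(7,1,3),(0,13,0),(7,1,8)],2,6,0),
  ([],0,1,0),
  ([],0,1,0),
  ([],0,1,0),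
  ([],0,1,0),
  ([],0,1,0),
  ([],0,1,0),
  ([],0,1,0),
  ([(0,1,0),(7,1,2)],2,2,0),
  ([],0,1,0),
  ([],0,1,0),
  ([],0,1,0),
  ([(0,1,0),(1,1,0),(3,1,0),(7,1,2),(0,5,0),(7,1,3)],2,3,0),
  ([],0,1,0),
  ([],0,1,0),
  ([],0,1,0),
  ([(0,1,0),(1,1,0),(2,1,0),(1,2,0),(2,2,0),(0,3,0),(2,3,0),(7,1,2),(1,9,0),(2,9,0),(0,10,0),(7,1,3),(0,13,0),(7,1,8)],2,6,0),
  ([(0,1,0),(1,1,0)],1,2,3),
  ([],0,1,0),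
  ([],0,1,0),
  ([],0,1,0),
  ([(0,1,0),(1,1,0)],1,2,3),
  ([],0,1,0),
  ([],0,1,0),
  ([],0,1,0),
  ([],0,1,0),
  ([(0,1,0),(1,1,0),(3,1,0),(1,2,0),(3,2,0),(3,3,0),(0,4,0),(7,1,2),(0,9,0),(1,9,0),(3,9,0),(7,1,3),(0,13,0),(7,1,4)],2,5,0),
  ([],0,1,0),
  ([(0,1,0),(1,1,0),(1,2,0),(7,1,2),(7,1,3),(0,6,0)],2,4,0),
  ([],0,1,0),
  ([(0,1,0),(1,1,0),(3,1,0),(1,2,0),(3,2,0),(3,3,0),(0,4,0),(7,1,2),(0,9,0),(1,9,0),(1,10,0),(7,1,3),(0,13,0),(7,1,7)],2,5,0),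
  ([],0,1,0),
  ([],0,1,0),
  ([(0,1,0),(1,1,0)],1,2,3),
  ([],0,1,0),
  ([],0,1,0),
  ([(0,1,0),(1,1,0),(2,1,0),(1,2,0),(2,2,0),(0,3,0),(2,3,0),(7,1,2),(1,9,0),(2,9,0),(0,10,0),(7,1,3),(7,1,4),(0,14,0)],2,6,0),
  ([],0,1,0),
  ([],0,1,0),
  ([],0,1,0),
  ([],0,1,0),
  ([],0,1,0),
  ([(0,1,0),(1,1,0),(3,1,0),(1,2,0),(3,2,0),(3,3,0),(0,4,0),(7,1,2),(0,9,0),(1,9,0),(3,9,0),(7,1,3),(0,13,0),(7,1,4)],2,5,0),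
  ([],0,1,0),
  ([(1,1,0),(2,1,0),(0,2,0),(7,1,2),(0,5,0),(7,1,3)],2,4,0),
  ([],0,1,0),
  ([(0,1,0),(1,1,0),(3,1,0),(1,2,0),(3,2,0),(3,3,0),(0,4,0),(7,1,2),(0,9,0),(1,9,0),(1,10,0),(7,1,3),(0,13,0),(7,1,7)],2,5,0),
  ([],0,1,0),
  ([],0,1,0),
  ([],0,1,0),
  ([],0,1,0),
  ([],0,1,0),
  ([(0,1,0),(1,1,0),(2,1,0),(1,2,0),(2,2,0),(0,3,0),(2,3,0),(7,1,2),(1,9,0),(2,9,0),(0,10,0),(7,1,3),(7,1,4),(0,14,0)],2,6,0),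
  ([(0,1,0),(1,1,0)],1,2,3),
  ([],0,1,0),
  ([],0,1,0),
  ([],2,1,0),
  ([],0,1,0),
  ([],0,1,0),
  ([],0,1,0),
  ([(0,1,0),(1,1,0),(1,2,0),(7,1,2),(0,5,0),(7,1,3)],2,3,0),
  ([],0,1,0),
  ([],0,1,0),
  ([],0,1,0),
  ([(0,1,0),(1,1,0),(2,1,0),(1,2,0),(2,2,0),(0,3,0),(2,3,0),(7,1,2),(1,9,0),(2,9,0),(0,10,0),(7,1,3),(0,13,0),(7,1,8)],2,6,0),
  ([],0,1,0),
  ([],0,1,0),
  ([],0,1,0),
  ([],0,1,0),
  ([],0,1,0),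
  ([],0,1,0),
  ([],0,1,0),
  ([(0,1,0),(7,1,2)],2,2,0),
  ([],0,1,0),
  ([],0,1,0),
  ([],0,1,0),
  ([(0,1,0),(1,1,0),(3,1,0),(7,1,2),(0,5,0),(7,1,3)],2,3,0),
  ([],0,1,0),
  ([],0,1,0),
  ([],0,1,0),
  ([(0,1,0),(1,1,0),(2,1,0),(1,2,0),(2,2,0),(0,3,0),(2,3,0),(7,1,2),(1,9,0),(2,9,0),(0,10,0),(7,1,3),(0,13,0),(7,1,8)],2,6,0),
  ([(0,1,0),(1,1,0)],1,2,3),
  ([],0,1,0),
  ([],0,1,0),
  ([],0,1,0),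
  ([(0,1,0),(1,1,0)],1,2,3),
  ([],0,1,0),
  ([],0,1,0),
  ([],0,1,0),
  ([],0,1,0),
  ([(0,1,0),(1,1,0),(3,1,0),(1,2,0),(3,2,0),(3,3,0),(0,4,0),(7,1,2),(0,9,0),(1,9,0),(3,9,0),(7,1,3),(0,13,0),(7,1,4)],2,5,0),
  ([],0,1,0),
  ([(0,1,0),(1,1,0),(1,2,0),(7,1,2),(7,1,3),(0,6,0)],2,4,0),
  ([],0,1,0),
  ([(0,1,0),(1,1,0),(3,1,0),(1,2,0),(3,2,0),(3,3,0),(0,4,0),(7,1,2),(0,9,0),(1,9,0),(1,10,0),(7,1,3),(0,13,0),(7,1,7)],2,5,0),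
  ([],0,1,0),
  ([],0,1,0),
  ([(0,1,0),(1,1,0)],1,2,3),
  ([],0,1,0),
  ([],0,1,0),
  ([(0,1,0),(1,1,0),(2,1,0),(1,2,0),(2,2,0),(0,3,0),(2,3,0),(7,1,2),(1,9,0),(2,9,0),(0,10,0),(7,1,3),(7,1,4),(0,14,0)],2,6,0),
  ([],0,1,0),
  ([],0,1,0),
  ([],0,1,0),
  ([],0,1,0),
  ([],0,1,0),
  ([(0,1,0),(1,1,0),(3,1,0),(1,2,0),(3,2,0),(3,3,0),(0,4,0),(7,1,2),(0,9,0),(1,9,0),(3,9,0),(7,1,3),(0,13,0),(7,1,4)],2,5,0),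
  ([],0,1,0),
  ([(1,1,0),(2,1,0),(0,2,0),(7,1,2),(0,5,0),(7,1,3)],2,4,0),
  ([],0,1,0),
  ([(0,1,0),(1,1,0),(3,1,0),(1,2,0),(3,2,0),(3,3,0),(0,4,0),(7,1,2),(0,9,0),(1,9,0),(1,10,0),(7,1,3),(0,13,0),(7,1,7)],2,5,0),
  ([],0,1,0),
  ([],0,1,0),
  ([],0,1,0),
  ([],0,1,0),
  ([],0,1,0),
  ([(0,1,0),(1,1,0),(2,1,0),(1,2,0),(2,2,0),(0,3,0),(2,3,0),(7,1,2),(1,9,0),(2,9,0),(0,10,0),(7,1,3),(7,1,4),(0,14,0)],2,6,0),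
  ([(0,1,0),(1,1,0)],1,2,3),
  ([],0,1,0),
  ([],0,1,0)]

/-- Certificates for the image of index 1. -/
def certs1 : List Cert := [
  ([],2,0,0),
  ([],0,2,0),
  ([],0,2,0),
  ([],0,2,0),
  ([(0,2,0),(1,2,0),(1,3,0),(7,2,3),(0,6,0)],2,3,0),
  ([],0,2,0),
  ([],0,2,0),
  ([],0,2,0),
  ([(0,2,0),(1,2,0),(2,2,0),(1,3,0),(2,3,0),(0,4,0),(2,4,0),(7,2,3),(1,10,0),(2,10,0),(0,11,0),(7,2,4),(0,14,0)],2,6,0),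
  ([],0,2,0),
  ([],0,2,0),
  ([],0,2,0),
  ([],0,2,0),
  ([],0,2,0),
  ([],0,2,0),
  ([],0,2,0),
  ([(0,2,0)],2,2,0),
  ([],0,2,0),
  ([],0,2,0),
  ([],0,2,0),
  ([(0,2,0),(1,2,0),(3,2,0),(7,2,3),(0,6,0)],2,3,0),
  ([],0,2,0),
  ([],0,2,0),
  ([],0,2,0),
  ([(0,2,0),(1,2,0),(2,2,0),(1,3,0),(2,3,0),(0,4,0),(2,4,0),(7,2,3),(1,10,0),(2,10,0),(0,11,0),(7,2,4),(0,14,0)],2,6,0),
  ([(0,2,0),(1,2,0)],1,3,4),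
  ([],0,2,0),
  ([],0,2,0),
  ([],0,2,0),
  ([(0,2,0),(1,2,0)],1,3,4),
  ([],0,2,0),
  ([],0,2,0),
  ([],0,2,0),
  ([],0,2,0),
  ([(0,2,0),(1,2,0),(3,2,0),(1,3,0),(3,3,0),(3,4,0),(0,5,0),(7,2,3),(0,10,0),(1,10,0),(3,10,0),(7,2,4),(0,14,0)],2,5,0),
  ([],0,2,0),
  ([(0,2,0),(1,2,0),(1,3,0),(7,2,4),(0,6,0)],2,4,0),
  ([],0,2,0),
  ([(0,2,0),(1,2,0),(3,2,0),(1,3,0),(3,3,0),(3,4,0),(0,5,0),(7,2,3),(0,10,0),(1,10,0),(1,11,0),(7,2,4),(0,14,0)],2,5,0),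
  ([],0,2,0),
  ([],0,2,0),
  ([(0,2,0),(1,2,0)],1,3,4),
  ([],0,2,0),
  ([],0,2,0),
  ([(0,2,0),(1,2,0),(2,2,0),(1,3,0),(2,3,0),(0,4,0),(2,4,0),(7,2,3),(1,10,0),(2,10,0),(0,11,0),(7,2,5),(0,14,0)],2,6,0),
  ([],0,2,0),
  ([],0,2,0),
  ([],0,2,0),
  ([],0,2,0),
  ([],0,2,0),
  ([(0,2,0),(1,2,0),(3,2,0),(1,3,0),(3,3,0),(3,4,0),(0,5,0),(7,2,3),(0,10,0),(1,10,0),(3,10,0),(7,2,4),(0,14,0)],2,5,0),
  ([],0,2,0),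
  ([(1,2,0),(2,2,0),(0,3,0),(7,2,3),(0,6,0)],2,4,0),
  ([],0,2,0),
  ([(0,2,0),(1,2,0),(3,2,0),(1,3,0),(3,3,0),(3,4,0),(0,5,0),(7,2,3),(0,10,0),(1,10,0),(1,11,0),(7,2,4),(0,14,0)],2,5,0),
  ([],0,2,0),
  ([],0,2,0),
  ([],0,2,0),
  ([],0,2,0),
  ([],0,2,0),
  ([(0,2,0),(1,2,0),(2,2,0),(1,3,0),(2,3,0),(0,4,0),(2,4,0),(7,2,3),(1,10,0),(2,10,0),(0,11,0),(7,2,5),(0,14,0)],2,6,0),
  ([(0,2,0),(1,2,0)],1,3,4),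
  ([],0,2,0),
  ([],0,2,0),
  ([],2,0,0),
  ([],0,2,0),
  ([],0,2,0),
  ([],0,2,0),
  ([(0,2,0),(1,2,0),(1,3,0),(7,2,3),(0,6,0)],2,3,0),
  ([],0,2,0),
  ([],0,2,0),
  ([],0,2,0),
  ([(0,2,0),(1,2,0),(2,2,0),(1,3,0),(2,3,0),(0,4,0),(2,4,0),(7,2,3),(1,10,0),(2,10,0),(0,11,0),(7,2,4),(0,14,0)],2,6,0),
  ([],0,2,0),
  ([],0,2,0),
  ([],0,2,0),
  ([],0,2,0),
  ([],0,2,0),
  ([],0,2,0),
  ([],0,2,0),
  ([(0,2,0)],2,2,0),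
  ([],0,2,0),
  ([],0,2,0),
  ([],0,2,0),
  ([(0,2,0),(1,2,0),(3,2,0),(7,2,3),(0,6,0)],2,3,0),
  ([],0,2,0),
  ([],0,2,0),
  ([],0,2,0),
  ([(0,2,0),(1,2,0),(2,2,0),(1,3,0),(2,3,0),(0,4,0),(2,4,0),(7,2,3),(1,10,0),(2,10,0),(0,11,0),(7,2,4),(0,14,0)],2,6,0),
  ([(0,2,0),(1,2,0)],1,3,4),
  ([],0,2,0),
  ([],0,2,0),
  ([],0,2,0),
  ([(0,2,0),(1,2,0)],1,3,4),
  ([],0,2,0),
  ([],0,2,0),
  ([],0,2,0),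
  ([],0,2,0),
  ([(0,2,0),(1,2,0),(3,2,0),(1,3,0),(3,3,0),(3,4,0),(0,5,0),(7,2,3),(0,10,0),(1,10,0),(3,10,0),(7,2,4),(0,14,0)],2,5,0),
  ([],0,2,0),
  ([(0,2,0),(1,2,0),(1,3,0),(7,2,4),(0,6,0)],2,4,0),
  ([],0,2,0),
  ([(0,2,0),(1,2,0),(3,2,0),(1,3,0),(3,3,0),(3,4,0),(0,5,0),(7,2,3),(0,10,0),(1,10,0),(1,11,0),(7,2,4),(0,14,0)],2,5,0),
  ([],0,2,0),
  ([],0,2,0),
  ([(0,2,0),(1,2,0)],1,3,4),
  ([],0,2,0),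
  ([],0,2,0),
  ([(0,2,0),(1,2,0),(2,2,0),(1,3,0),(2,3,0),(0,4,0),(2,4,0),(7,2,3),(1,10,0),(2,10,0),(0,11,0),(7,2,5),(0,14,0)],2,6,0),
  ([],0,2,0),
  ([],0,2,0),
  ([],0,2,0),
  ([],0,2,0),
  ([],0,2,0),
  ([(0,2,0),(1,2,0),(3,2,0),(1,3,0),(3,3,0),(3,4,0),(0,5,0),(7,2,3),(0,10,0),(1,10,0),(3,10,0),(7,2,4),(0,14,0)],2,5,0),
  ([],0,2,0),
  ([(1,2,0),(2,2,0),(0,3,0),(7,2,3),(0,6,0)],2,4,0),
  ([],0,2,0),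
  ([(0,2,0),(1,2,0),(3,2,0),(1,3,0),(3,3,0),(3,4,0),(0,5,0),(7,2,3),(0,10,0),(1,10,0),(1,11,0),(7,2,4),(0,14,0)],2,5,0),
  ([],0,2,0),
  ([],0,2,0),
  ([],0,2,0),
  ([],0,2,0),
  ([],0,2,0),
  ([(0,2,0),(1,2,0),(2,2,0),(1,3,0),(2,3,0),(0,4,0),(2,4,0),(7,2,3),(1,10,0),(2,10,0),(0,11,0),(7,2,5),(0,14,0)],2,6,0),
  ([(0,2,0),(1,2,0)],1,3,4),
  ([],0,2,0),
  ([],0,2,0)]

/-- Certificates for the image of index 2. -/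
def certs2 : List Cert := [
  ([],2,0,0),
  ([],0,4,0),
  ([],0,4,0),
  ([],0,4,0),
  ([(0,4,0),(1,4,0),(1,5,0)],2,3,0),
  ([],0,4,0),
  ([],0,4,0),
  ([],0,4,0),
  ([(0,4,0),(1,4,0),(2,4,0),(1,5,0),(2,5,0),(0,6,0),(2,6,0),(7,4,5),(1,12,0),(2,12,0),(0,13,0)],2,6,0),
  ([],0,4,0),
  ([],0,4,0),
  ([],0,4,0),
  ([],0,4,0),
  ([],0,4,0),
  ([],0,4,0),
  ([],0,4,0),
  ([],2,0,0),
  ([],0,4,0),
  ([],0,4,0),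
  ([],0,4,0),
  ([(0,4,0),(1,4,0),(3,4,0)],2,3,0),
  ([],0,4,0),
  ([],0,4,0),
  ([],0,4,0),
  ([(0,4,0),(1,4,0),(2,4,0),(1,5,0),(2,5,0),(0,6,0),(2,6,0),(7,4,5),(1,12,0),(2,12,0),(0,13,0)],2,6,0),
  ([],1,1,4),
  ([],0,4,0),
  ([],0,4,0),
  ([],0,4,0),
  ([],1,1,4),
  ([],0,4,0),
  ([],0,4,0),
  ([],0,4,0),
  ([],0,4,0),
  ([(0,4,0),(1,4,0),(3,4,0),(1,5,0),(3,5,0),(3,6,0),(0,7,0),(7,4,5),(0,12,0),(1,12,0),(3,12,0)],2,5,0),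
  ([],0,4,0),
  ([(0,4,0),(1,4,0),(1,5,0)],2,4,0),
  ([],0,4,0),
  ([(0,4,0),(1,4,0),(3,4,0),(1,5,0),(3,5,0),(3,6,0),(0,7,0),(7,4,5),(0,12,0),(1,12,0),(1,13,0)],2,5,0),
  ([],0,4,0),
  ([],0,4,0),
  ([],1,1,4),
  ([],0,4,0),
  ([],0,4,0),
  ([(0,4,0),(1,4,0),(2,4,0),(1,5,0),(2,5,0),(0,6,0),(2,6,0),(7,4,5),(1,12,0),(2,12,0),(0,13,0)],2,6,0),
  ([],0,4,0),
  ([],0,4,0),
  ([],0,4,0),
  ([],0,4,0),
  ([],0,4,0),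
  ([(0,4,0),(1,4,0),(3,4,0),(1,5,0),(3,5,0),(3,6,0),(0,7,0),(7,4,5),(0,12,0),(1,12,0),(3,12,0)],2,5,0),
  ([],0,4,0),
  ([(1,4,0),(2,4,0),(0,5,0)],2,4,0),
  ([],0,4,0),
  ([(0,4,0),(1,4,0),(3,4,0),(1,5,0),(3,5,0),(3,6,0),(0,7,0),(7,4,5),(0,12,0),(1,12,0),(1,13,0)],2,5,0),
  ([],0,4,0),
  ([],0,4,0),
  ([],0,4,0),
  ([],0,4,0),
  ([],0,4,0),
  ([(0,4,0),(1,4,0),(2,4,0),(1,5,0),(2,5,0),(0,6,0),(2,6,0),(7,4,5),(1,12,0),(2,12,0),(0,13,0)],2,6,0),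
  ([],1,1,4),
  ([],0,4,0),
  ([],0,4,0),
  ([],2,0,0),
  ([],0,4,0),
  ([],0,4,0),
  ([],0,4,0),
  ([(0,4,0),(1,4,0),(1,5,0)],2,3,0),
  ([],0,4,0),
  ([],0,4,0),
  ([],0,4,0),
  ([(0,4,0),(1,4,0),(2,4,0),(1,5,0),(2,5,0),(0,6,0),(2,6,0),(7,4,5),(1,12,0),(2,12,0),(0,13,0)],2,6,0),
  ([],0,4,0),
  ([],0,4,0),
  ([],0,4,0),
  ([],0,4,0),
  ([],0,4,0),
  ([],0,4,0),
  ([],0,4,0),
  ([],2,0,0),
  ([],0,4,0),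
  ([],0,4,0),
  ([],0,4,0),
  ([(0,4,0),(1,4,0),(3,4,0)],2,3,0),
  ([],0,4,0),
  ([],0,4,0),
  ([],0,4,0),
  ([(0,4,0),(1,4,0),(2,4,0),(1,5,0),(2,5,0),(0,6,0),(2,6,0),(7,4,5),(1,12,0),(2,12,0),(0,13,0)],2,6,0),
  ([],1,1,4),
  ([],0,4,0),
  ([],0,4,0),
  ([],0,4,0),
  ([],1,1,4),
  ([],0,4,0),
  ([],0,4,0),
  ([],0,4,0),
  ([],0,4,0),
  ([(0,4,0),(1,4,0),(3,4,0),(1,5,0),(3,5,0),(3,6,0),(0,7,0),(7,4,5),(0,12,0),(1,12,0),(3,12,0)],2,5,0),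
  ([],0,4,0),
  ([(0,4,0),(1,4,0),(1,5,0)],2,4,0),
  ([],0,4,0),
  ([(0,4,0),(1,4,0),(3,4,0),(1,5,0),(3,5,0),(3,6,0),(0,7,0),(7,4,5),(0,12,0),(1,12,0),(1,13,0)],2,5,0),
  ([],0,4,0),
  ([],0,4,0),
  ([],1,1,4),
  ([],0,4,0),
  ([],0,4,0),
  ([(0,4,0),(1,4,0),(2,4,0),(1,5,0),(2,5,0),(0,6,0),(2,6,0),(7,4,5),(1,12,0),(2,12,0),(0,13,0)],2,6,0),
  ([],0,4,0),
  ([],0,4,0),
  ([],0,4,0),
  ([],0,4,0),
  ([],0,4,0),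
  ([(0,4,0),(1,4,0),(3,4,0),(1,5,0),(3,5,0),(3,6,0),(0,7,0),(7,4,5),(0,12,0),(1,12,0),(3,12,0)],2,5,0),
  ([],0,4,0),
  ([(1,4,0),(2,4,0),(0,5,0)],2,4,0),
  ([],0,4,0),
  ([(0,4,0),(1,4,0),(3,4,0),(1,5,0),(3,5,0),(3,6,0),(0,7,0),(7,4,5),(0,12,0),(1,12,0),(1,13,0)],2,5,0),
  ([],0,4,0),
  ([],0,4,0),
  ([],0,4,0),
  ([],0,4,0),
  ([],0,4,0),
  ([(0,4,0),(1,4,0),(2,4,0),(1,5,0),(2,5,0),(0,6,0),(2,6,0),(7,4,5),(1,12,0),(2,12,0),(0,13,0)],2,6,0),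
  ([],1,1,4),
  ([],0,4,0),
  ([],0,4,0)]

/-- Certificates for the image of index 3. -/
def certs3 : List Cert := [
  ([],2,0,0),
  ([],0,8,0),
  ([],0,8,0),
  ([],0,8,0),
  ([],2,0,0),
  ([],0,8,0),
  ([],0,8,0),
  ([],0,8,0),
  ([],1,1,8),
  ([],0,8,0),
  ([],0,8,0),
  ([],0,8,0),
  ([],0,8,0),
  ([],0,8,0),
  ([],0,8,0),
  ([],0,8,0),
  ([],2,0,0),
  ([],0,8,0),
  ([],0,8,0),
  ([],0,8,0),
  ([],2,0,0),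
  ([],0,8,0),
  ([],0,8,0),
  ([],0,8,0),
  ([],1,1,8),
  ([],1,1,8),
  ([],0,8,0),
  ([],0,8,0),
  ([],0,8,0),
  ([],1,1,8),
  ([],0,8,0),
  ([],0,8,0),
  ([],0,8,0),
  ([],0,8,0),
  ([(0,8,0),(1,8,0),(3,8,0),(1,9,0),(3,9,0),(3,10,0),(0,11,0)],2,5,0),
  ([],0,8,0),
  ([],1,1,8),
  ([],0,8,0),
  ([(0,8,0),(1,8,0),(3,8,0),(1,9,0),(3,9,0),(3,10,0),(0,11,0)],2,5,0),
  ([],0,8,0),
  ([],0,8,0),
  ([],1,2,8),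
  ([],0,8,0),
  ([],0,8,0),
  ([],1,1,8),
  ([],0,8,0),
  ([],0,8,0),
  ([],0,8,0),
  ([],0,8,0),
  ([],0,8,0),
  ([(0,8,0),(1,8,0),(3,8,0),(1,9,0),(3,9,0),(3,10,0),(0,11,0)],2,5,0),
  ([],0,8,0),
  ([],1,1,8),
  ([],0,8,0),
  ([(0,8,0),(1,8,0),(3,8,0),(1,9,0),(3,9,0),(3,10,0),(0,11,0)],2,5,0),
  ([],0,8,0),
  ([],0,8,0),
  ([],0,8,0),
  ([],0,8,0),
  ([],0,8,0),
  ([],1,1,8),
  ([],1,2,8),
  ([],0,8,0),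
  ([],0,8,0),
  ([],2,0,0),
  ([],0,8,0),
  ([],0,8,0),
  ([],0,8,0),
  ([],2,0,0),
  ([],0,8,0),
  ([],0,8,0),
  ([],0,8,0),
  ([],1,1,8),
  ([],0,8,0),
  ([],0,8,0),
  ([],0,8,0),
  ([],0,8,0),
  ([],0,8,0),
  ([],0,8,0),
  ([],0,8,0),
  ([],2,0,0),
  ([],0,8,0),
  ([],0,8,0),
  ([],0,8,0),
  ([],2,0,0),
  ([],0,8,0),
  ([],0,8,0),
  ([],0,8,0),
  ([],1,1,8),
  ([],1,1,8),
  ([],0,8,0),
  ([],0,8,0),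
  ([],0,8,0),
  ([],1,1,8),
  ([],0,8,0),
  ([],0,8,0),
  ([],0,8,0),
  ([],0,8,0),
  ([(0,8,0),(1,8,0),(3,8,0),(1,9,0),(3,9,0),(3,10,0),(0,11,0)],2,5,0),
  ([],0,8,0),
  ([],1,1,8),
  ([],0,8,0),
  ([(0,8,0),(1,8,0),(3,8,0),(1,9,0),(3,9,0),(3,10,0),(0,11,0)],2,5,0),
  ([],0,8,0),
  ([],0,8,0),
  ([],1,2,8),
  ([],0,8,0),
  ([],0,8,0),
  ([],1,1,8),
  ([],0,8,0),
  ([],0,8,0),
  ([],0,8,0),
  ([],0,8,0),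
  ([],0,8,0),
  ([(0,8,0),(1,8,0),(3,8,0),(1,9,0),(3,9,0),(3,10,0),(0,11,0)],2,5,0),
  ([],0,8,0),
  ([],1,1,8),
  ([],0,8,0),
  ([(0,8,0),(1,8,0),(3,8,0),(1,9,0),(3,9,0),(3,10,0),(0,11,0)],2,5,0),
  ([],0,8,0),
  ([],0,8,0),
  ([],0,8,0),
  ([],0,8,0),
  ([],0,8,0),
  ([],1,1,8),
  ([],1,2,8),
  ([],0,8,0),
  ([],0,8,0)]

/-- Certificates for the image of index 4. -/
def certs4 : List Cert := [
  ([],2,0,0),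
  ([],0,8,0),
  ([],0,8,0),
  ([],0,8,0),
  ([],1,2,8),
  ([],0,8,0),
  ([],0,8,0),
  ([],0,8,0),
  ([(0,8,0),(1,8,0),(2,8,0),(1,9,0),(2,9,0),(0,10,0),(2,10,0)],2,6,0),
  ([],0,8,0),
  ([],0,8,0),
  ([],0,8,0),
  ([],0,8,0),
  ([],0,8,0),
  ([],0,8,0),
  ([],0,8,0),
  ([],2,0,0),
  ([],0,8,0),
  ([],0,8,0),
  ([],0,8,0),
  ([],1,2,8),
  ([],0,8,0),
  ([],0,8,0),
  ([],0,8,0),
  ([(0,8,0),(1,8,0),(2,8,0),(1,9,0),(2,9,0),(0,10,0),(2,10,0)],2,6,0),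
  ([],1,1,8),
  ([],0,8,0),
  ([],0,8,0),
  ([],0,8,0),
  ([],1,1,8),
  ([],0,8,0),
  ([],0,8,0),
  ([],0,8,0),
  ([],0,8,0),
  ([],1,2,8),
  ([],0,8,0),
  ([],2,0,0),
  ([],0,8,0),
  ([],1,2,8),
  ([],0,8,0),
  ([],0,8,0),
  ([],1,1,8),
  ([],0,8,0),
  ([],0,8,0),
  ([(0,8,0),(1,8,0),(2,8,0),(1,9,0),(2,9,0),(0,10,0),(2,10,0)],2,6,0),
  ([],0,8,0),
  ([],0,8,0),
  ([],0,8,0),
  ([],0,8,0),
  ([],0,8,0),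
  ([],1,2,8),
  ([],0,8,0),
  ([],2,0,0),
  ([],0,8,0),
  ([],1,2,8),
  ([],0,8,0),
  ([],0,8,0),
  ([],0,8,0),
  ([],0,8,0),
  ([],0,8,0),
  ([(0,8,0),(1,8,0),(2,8,0),(1,9,0),(2,9,0),(0,10,0),(2,10,0)],2,6,0),
  ([],1,1,8),
  ([],0,8,0),
  ([],0,8,0),
  ([],2,0,0),
  ([],0,8,0),
  ([],0,8,0),
  ([],0,8,0),
  ([],1,2,8),
  ([],0,8,0),
  ([],0,8,0),
  ([],0,8,0),
  ([(0,8,0),(1,8,0),(2,8,0),(1,9,0),(2,9,0),(0,10,0),(2,10,0)],2,6,0),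
  ([],0,8,0),
  ([],0,8,0),
  ([],0,8,0),
  ([],0,8,0),
  ([],0,8,0),
  ([],0,8,0),
  ([],0,8,0),
  ([],2,0,0),
  ([],0,8,0),
  ([],0,8,0),
  ([],0,8,0),
  ([],1,2,8),
  ([],0,8,0),
  ([],0,8,0),
  ([],0,8,0),
  ([(0,8,0),(1,8,0),(2,8,0),(1,9,0),(2,9,0),(0,10,0),(2,10,0)],2,6,0),
  ([],1,1,8),
  ([],0,8,0),
  ([],0,8,0),
  ([],0,8,0),
  ([],1,1,8),
  ([],0,8,0),
  ([],0,8,0),
  ([],0,8,0),
  ([],0,8,0),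
  ([],1,2,8),
  ([],0,8,0),
  ([],2,0,0),
  ([],0,8,0),
  ([],1,2,8),
  ([],0,8,0),
  ([],0,8,0),
  ([],1,1,8),
  ([],0,8,0),
  ([],0,8,0),
  ([(0,8,0),(1,8,0),(2,8,0),(1,9,0),(2,9,0),(0,10,0),(2,10,0)],2,6,0),
  ([],0,8,0),
  ([],0,8,0),
  ([],0,8,0),
  ([],0,8,0),
  ([],0,8,0),
  ([],1,2,8),
  ([],0,8,0),
  ([],2,0,0),
  ([],0,8,0),
  ([],1,2,8),
  ([],0,8,0),
  ([],0,8,0),
  ([],0,8,0),
  ([],0,8,0),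
  ([],0,8,0),
  ([(0,8,0),(1,8,0),(2,8,0),(1,9,0),(2,9,0),(0,10,0),(2,10,0)],2,6,0),
  ([],1,1,8),
  ([],0,8,0),
  ([],0,8,0)]

/-- Certificates for the image of index 5. -/
def certs5 : List Cert := [
  ([],2,0,0),
  ([],0,16,0),
  ([],0,16,0),
  ([],0,16,0),
  ([],2,0,0),
  ([],0,16,0),
  ([],0,16,0),
  ([],0,16,0),
  ([],1,1,16),
  ([],0,16,0),
  ([],0,16,0),
  ([],0,16,0),
  ([],0,16,0),
  ([],0,16,0),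
  ([],0,16,0),
  ([],0,16,0),
  ([],2,0,0),
  ([],0,16,0),
  ([],0,16,0),
  ([],0,16,0),
  ([],2,0,0),
  ([],0,16,0),
  ([],0,16,0),
  ([],0,16,0),
  ([],1,1,16),
  ([],1,1,16),
  ([],0,16,0),
  ([],0,16,0),
  ([],0,16,0),
  ([],1,1,16),
  ([],0,16,0),
  ([],0,16,0),
  ([],0,16,0),
  ([],0,16,0),
  ([],2,0,0),
  ([],0,16,0),
  ([],1,1,16),
  ([],0,16,0),
  ([],2,0,0),
  ([],0,16,0),
  ([],0,16,0),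
  ([],1,2,16),
  ([],0,16,0),
  ([],0,16,0),
  ([],1,1,16),
  ([],0,16,0),
  ([],0,16,0),
  ([],0,16,0),
  ([],0,16,0),
  ([],0,16,0),
  ([],2,0,0),
  ([],0,16,0),
  ([],1,1,16),
  ([],0,16,0),
  ([],2,0,0),
  ([],0,16,0),
  ([],0,16,0),
  ([],0,16,0),
  ([],0,16,0),
  ([],0,16,0),
  ([],1,1,16),
  ([],1,2,16),
  ([],0,16,0),
  ([],0,16,0),
  ([],2,0,0),
  ([],0,16,0),
  ([],0,16,0),
  ([],0,16,0),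
  ([],2,0,0),
  ([],0,16,0),
  ([],0,16,0),
  ([],0,16,0),
  ([],1,1,16),
  ([],0,16,0),
  ([],0,16,0),
  ([],0,16,0),
  ([],0,16,0),
  ([],0,16,0),
  ([],0,16,0),
  ([],0,16,0),
  ([],2,0,0),
  ([],0,16,0),
  ([],0,16,0),
  ([],0,16,0),
  ([],2,0,0),
  ([],0,16,0),
  ([],0,16,0),
  ([],0,16,0),
  ([],1,1,16),
  ([],1,1,16),
  ([],0,16,0),
  ([],0,16,0),
  ([],0,16,0),
  ([],1,1,16),
  ([],0,16,0),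
  ([],0,16,0),
  ([],0,16,0),
  ([],0,16,0),
  ([],2,0,0),
  ([],0,16,0),
  ([],1,1,16),
  ([],0,16,0),
  ([],2,0,0),
  ([],0,16,0),
  ([],0,16,0),
  ([],1,2,16),
  ([],0,16,0),
  ([],0,16,0),
  ([],1,1,16),
  ([],0,16,0),
  ([],0,16,0),
  ([],0,16,0),
  ([],0,16,0),
  ([],0,16,0),
  ([],2,0,0),
  ([],0,16,0),
  ([],1,1,16),
  ([],0,16,0),
  ([],2,0,0),
  ([],0,16,0),
  ([],0,16,0),
  ([],0,16,0),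
  ([],0,16,0),
  ([],0,16,0),
  ([],1,1,16),
  ([],1,2,16),
  ([],0,16,0),
  ([],0,16,0)]

/-- Certificates for the image of index 6. -/
def certs6 : List Cert := [
  ([],2,0,0),
  ([],0,16,0),
  ([],0,16,0),
  ([],0,16,0),
  ([],1,1,16),
  ([],0,16,0),
  ([],0,16,0),
  ([],0,16,0),
  ([],2,0,0),
  ([],0,16,0),
  ([],0,16,0),
  ([],0,16,0),
  ([],0,16,0),
  ([],0,16,0),
  ([],0,16,0),
  ([],0,16,0),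
  ([],2,0,0),
  ([],0,16,0),
  ([],0,16,0),
  ([],0,16,0),
  ([],1,1,16),
  ([],0,16,0),
  ([],0,16,0),
  ([],0,16,0),
  ([],2,0,0),
  ([],1,1,16),
  ([],0,16,0),
  ([],0,16,0),
  ([],0,16,0),
  ([],1,1,16),
  ([],0,16,0),
  ([],0,16,0),
  ([],0,16,0),
  ([],0,16,0),
  ([],1,1,16),
  ([],0,16,0),
  ([],2,0,0),
  ([],0,16,0),
  ([],1,1,16),
  ([],0,16,0),
  ([],0,16,0),
  ([],1,1,16),
  ([],0,16,0),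
  ([],0,16,0),
  ([],2,0,0),
  ([],0,16,0),
  ([],0,16,0),
  ([],0,16,0),
  ([],0,16,0),
  ([],0,16,0),
  ([],1,1,16),
  ([],0,16,0),
  ([],2,0,0),
  ([],0,16,0),
  ([],1,1,16),
  ([],0,16,0),
  ([],0,16,0),
  ([],0,16,0),
  ([],0,16,0),
  ([],0,16,0),
  ([],2,0,0),
  ([],1,1,16),
  ([],0,16,0),
  ([],0,16,0),
  ([],2,0,0),
  ([],0,16,0),
  ([],0,16,0),
  ([],0,16,0),
  ([],1,1,16),
  ([],0,16,0),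
  ([],0,16,0),
  ([],0,16,0),
  ([],2,0,0),
  ([],0,16,0),
  ([],0,16,0),
  ([],0,16,0),
  ([],0,16,0),
  ([],0,16,0),
  ([],0,16,0),
  ([],0,16,0),
  ([],2,0,0),
  ([],0,16,0),
  ([],0,16,0),
  ([],0,16,0),
  ([],1,1,16),
  ([],0,16,0),
  ([],0,16,0),
  ([],0,16,0),
  ([],2,0,0),
  ([],1,1,16),
  ([],0,16,0),
  ([],0,16,0),
  ([],0,16,0),
  ([],1,1,16),
  ([],0,16,0),
  ([],0,16,0),
  ([],0,16,0),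
  ([],0,16,0),
  ([],1,1,16),
  ([],0,16,0),
  ([],2,0,0),
  ([],0,16,0),
  ([],1,1,16),
  ([],0,16,0),
  ([],0,16,0),
  ([],1,1,16),
  ([],0,16,0),
  ([],0,16,0),
  ([],2,0,0),
  ([],0,16,0),
  ([],0,16,0),
  ([],0,16,0),
  ([],0,16,0),
  ([],0,16,0),
  ([],1,1,16),
  ([],0,16,0),
  ([],2,0,0),
  ([],0,16,0),
  ([],1,1,16),
  ([],0,16,0),
  ([],0,16,0),
  ([],0,16,0),
  ([],0,16,0),
  ([],0,16,0),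
  ([],2,0,0),
  ([],1,1,16),
  ([],0,16,0),
  ([],0,16,0)]

/-- All certificates. -/
def allCerts : List (List Cert) := [certs0,certs1,certs2,certs3,certs4,certs5,certs6]

end H92.FiT
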