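/-
The kernel checks for the generated data.
-/
import Cfsg.Agent.H92.FiT.Data
import Cfsg.Agent.H92.FiT.Words

set_option autoImplicit false
set_option maxRecDepth 100000

namespace H92.FiT

theorem jw_letters : jw.all lettersOK = true := by decide +kernel

theorem jw_sq : ∀ a ∈ jw, eqv (a ++ a) [] = true := by decide +kernel

theorem jw_comm : ∀ a ∈ jw, ∀ b ∈ jw, eqv (a ++ b) (b ++ a) = true := by decide +kernel

theorem jw_sep : sep jw leaf = true := by decide +kernel

theorem ms_ok : (List.zipWith (rowOK jw) tw ms).all id = true := by decide +kernel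

theorem closed_ok : closedOK jw tw relForms = true := by decide +kernel

theorem basis : Basis (jw.map fev) := basis_of_checks jw_letters jw_sq jw_comm jw_sep

theorem inv_ok : (List.zipWith (fun m m' : List ℕ => Nat.beq m'.length 11 &&
    m'.all (fun a => Nat.blt a (2 ^ 11)) && beqL (comp m m') (unit 11)) ms ms').all id = true := by
  decide +kernel

theorem rows_ok : (List.range 128).all (fun e => beqL (rowOf ms 11 e) (allRows.getD e []) &&
    Nat.beq (allRows.findIdx (beqL (allRows.getD e []))) e) = true := by decide +kernel

theorem level0 : okLevel ms (ms.zip ms') 11 128 images 0 certs0 = true := by decide +kernel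
theorem level1 : okLevel ms (ms.zip ms') 11 128 images 1 certs1 = true := by decide +kernel
theorem level2 : okLevel ms (ms.zip ms') 11 128 images 2 certs2 = true := by decide +kernel
theorem level3 : okLevel ms (ms.zip ms') 11 128 images 3 certs3 = true := by decide +kernel
theorem level4 : okLevel ms (ms.zip ms') 11 128 images 4 certs4 = true := by decide +kernel
theorem level5 : okLevel ms (ms.zip ms') 11 128 images 5 certs5 = true := by decide +kernel
theorem level6 : okLevel ms (ms.zip ms') 11 128 images 6 certs6 = true := by decide +kernel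

theorem fix_ok : ∀ i, i < 7 → Nat.beq i 0 = true ∨ (images.getD i []).length *
    ((List.range 2048).filter (fixes (images.getD i []))).length < 2048 := by decide +kernel

theorem jw_len : (jw.map fev).length = 11 := by rw [List.length_map]; rfl

theorem tw_len : (tw.map fev).length = 7 := by rw [List.length_map]; rfl

theorem forms : Forms (jw.map fev) (tw.map fev) ms ms' := by
  refine ⟨basis, rows_of_checks (show tw.length = ms.length from rfl) ms_ok, closedOK_spec closed_ok, ?_, ?_⟩
  · rw [jw_len]
    refine (zipWith_all _ (show ms.length = ms'.length from rfl) inv_ok).imp fun m m' h => ?_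
    simp only [Bool.and_eq_true, Nat.beq_eq, List.all_eq_true, Nat.blt_eq, beqL_iff] at h
    exact ⟨h.1.1, h.1.2, h.2⟩
  · rw [jw_len, tw_len]
    intro e f he hf h
    have key : ∀ x, x < 2 ^ 7 → rowOf ms 11 x = allRows.getD x [] ∧
        allRows.findIdx (beqL (allRows.getD x [])) = x := by
      intro x hx
      have := List.all_eq_true.1 rows_ok x (List.mem_range.2 hx)
      simpa only [Bool.and_eq_true, Nat.beq_eq, beqL_iff] using this
    rw [← (key e he).2, ← (key f hf).2, ← (key e he).1, ← (key f hf).1, h]

theorem bound {A : Subgroup Cfsg.Spor.Fi23} (hA : ∀ a ∈ A, Form (jw.map fev) (tw.map fev) a)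
    (hnorm : ∀ t ∈ tw.map fev, ∀ a ∈ A, t * a * t⁻¹ ∈ A) (hsq : ∀ a ∈ A, a * a = 1)
    (hcomm : ∀ a ∈ A, ∀ b ∈ A, a * b = b * a) :
    A ≤ span basis ∨ Nat.card A < 2 ^ 11 := by
  have h := forms.elementary_bound (LS := images) (certs := allCerts)
    (by rw [jw_len]; rfl) (by decide) ?_ ?_ hA hnorm hsq hcomm
  · rwa [jw_len] at h
  · rw [jw_len, tw_len]
    intro i hi
    have h7 : i < 7 := hi
    interval_cases i
    exacts [level0, level1, level2, level3, level4, level5, level6]
  · rw [jw_len]
    intro i hpos hi
    refine (fix_ok i hi).resolve_left ?_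
    rw [Nat.beq_eq]
    omega

end H92.FiT
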